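import Groth.Agent.SpFlat5.LocalLen
import Groth.Agent.H23.SpFlat
import Groth.Agent.Codepth5.Scheme
import Groth.Agent.AssDecomp5.Main
import Groth.Agent.ZClosLib.CohDescent
import Groth.Prelude.Def_FDesc

/-!
# The sum of generic lengths is at most the sum of special lengths
-/

set_option autoImplicit false
set_option linter.style.haveILetI false
set_option backward.isDefEq.respectTransparency false
set_option backward.isDefEq.respectTransparency.types false

universe u

open AlgebraicGeometry CategoryTheory IsLocalRing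
open scoped Pointwise

namespace Groth.Agent.SpFlat5

open Groth.Agent H23.SpGysin H23.StalkPrimes CDiv6

section generic

/-- A closed subset of a scheme has, for each of its points, a generization maximal in it. -/
theorem exists_maximal_in_closed {Z : Scheme.{u}} {C : Set Z} (hC : IsClosed C) (hne : C.Nonempty) :
    ∃ w ∈ C, ∀ w' ∈ C, w' ⤳ w → w' = w := by
  obtain ⟨w₀, hw₀⟩ := hne
  haveI : QuasiSober C := hC.isClosedEmbedding_subtypeVal.quasiSober
  let c : Set C := irreducibleComponent (⟨w₀, hw₀⟩ : C)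
  have hc : IsIrreducible c := isIrreducible_irreducibleComponent
  obtain ⟨g, hg⟩ := QuasiSober.sober hc isClosed_irreducibleComponent
  refine ⟨g.1, g.2, fun w' hw' h => ?_⟩
  have h' : (⟨w', hw'⟩ : C) ⤳ g := subtype_specializes_iff _ _ |>.2 h
  have hsub : c ⊆ closure {⟨w', hw'⟩} := hg.def ▸ closure_minimal
    (Set.singleton_subset_iff.2 h'.mem_closure) isClosed_closure
  have he := (irreducibleComponent_mem_irreducibleComponents (⟨w₀, hw₀⟩ : C)).2
    isIrreducible_singleton.closure hsub
  have h'' : g ⤳ (⟨w', hw'⟩ : C) := specializes_iff_mem_closure.2 (hg.def.symm ▸ he (subset_closure rfl))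
  exact congrArg Subtype.val (h'.antisymm h'').eq

theorem mem_support_primeOf_iff {X : Scheme.{u}} {F : X.Modules} (hF : Coh.IsQCoh F) {x y : X} (h : y ⤳ x) :
    primeOf h ∈ Module.support (X.presheaf.stalk x) (F.presheaf.stalk x) ↔ Nontrivial (F.presheaf.stalk y) := by
  rw [Module.mem_support_iff, H23.SpGysin.nontrivial_iff_length (A := Localization.AtPrime (primeOf h).asIdeal),
    H23.CapSheaf.length_stalk_eq hF h, ← H23.SpGysin.nontrivial_iff_length]

theorem mem_ass_of_maximal {Z : Scheme.{u}} [IsLocallyNoetherian Z] {G : Z.Modules} (hG : Coh.IsQCoh G) {v : Z}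
    (hv : Nontrivial (G.presheaf.stalk v)) (hmax : ∀ w, Nontrivial (G.presheaf.stalk w) → w ⤳ v → w = v) :
    v ∈ AssSch.Ass G := by
  have hv' : v ∈ CohB1.support G := fun h => not_subsingleton _ h
  obtain ⟨y, hy, hyv⟩ := AssLib.exists_ass_specializes hG hv'
  obtain rfl : y = v := hmax y (not_subsingleton_iff_nontrivial.1 (AssLib.mem_support_of_mem_ass hy)) hyv
  exact hy

end generic

variable {R : Type u} [CommRing R] [IsDomain R] [IsDiscreteValuationRing R] {X : Scheme.{u}} (a : X ⟶ B R)
  [IsLocallyNoetherian X] [IsProper a] {F : X.Modules}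

theorem nontrivial_fiber_η_iff (ζ : ↥(a.fiber (η R))) :
    Nontrivial (((Scheme.Modules.pullback (a.fiberι (η R))).obj F).presheaf.stalk ζ) ↔
      Nontrivial (F.presheaf.stalk (a.fiberι (η R) ζ)) := by
  rw [H23.SpGysin.nontrivial_iff_length (A := (a.fiber (η R)).presheaf.stalk ζ), length_fiber_η,
    ← H23.SpGysin.nontrivial_iff_length]

omit [IsLocallyNoetherian X] in
theorem mem_ass_fiber_s (w : ↥(a.fiber (s R)))
    (h : maximalIdeal (X.presheaf.stalk (a.fiberι (s R) w)) ∈ associatedPrimes (X.presheaf.stalk (a.fiberι (s R) w))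
      (QuotSMulTop (πx a (a.fiberι (s R) w)) (F.presheaf.stalk (a.fiberι (s R) w))))
    [IsLocallyNoetherian (a.fiber (s R))] [IsNoetherianRing (X.presheaf.stalk (a.fiberι (s R) w))] :
    w ∈ AssSch.Ass ((Scheme.Modules.pullback (a.fiberι (s R))).obj F) := by
  obtain ⟨σ, hσ, e, he⟩ := Codepth5.fibre_semi a F (a.fiberι (s R) w) (s R) w rfl
  have key : ∀ y : B R, y = s R → maximalIdeal ((B R).presheaf.stalk y) =
      Ideal.span {(B R).presheaf.germ ⊤ y trivial (unif R)} := fun y hy => by subst hy; exact maximalIdeal_stalk_s R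
  have hI : Codepth5.fibIdeal a (a.fiberι (s R) w) = Ideal.span {πx a (a.fiberι (s R) w)} := by
    rw [Codepth5.fibIdeal, key _ (FibDim.fiber_apply_fiberι a w), Ideal.map_span, Set.image_singleton]
    rfl
  let q := Submodule.quotEquivOfEq
    (πx a (a.fiberι (s R) w) • (⊤ : Submodule (X.presheaf.stalk (a.fiberι (s R) w)) (F.presheaf.stalk (a.fiberι (s R) w))))
    (Codepth5.fibIdeal a (a.fiberι (s R) w) • ⊤) (by rw [hI, Submodule.ideal_span_singleton_smul])
  obtain ⟨-, z, hz⟩ := isAssociatedPrime_iff.1 h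
  have hz' : ∀ r, r ∈ maximalIdeal (X.presheaf.stalk (a.fiberι (s R) w)) ↔ r • z = 0 := fun r => by
    rw [hz, Submodule.mem_colon_singleton, Submodule.mem_bot]
  have hz0 : z ≠ 0 := fun h0 => (maximalIdeal.isMaximal (X.presheaf.stalk (a.fiberι (s R) w))).ne_top
    ((Ideal.eq_top_iff_one _).2 ((hz' 1).2 (by rw [h0, smul_zero])))
  haveI : IsLocalHom σ := IsLocalHom.of_surjective σ hσ
  rw [AssLib.mem_ass_def]
  refine isAssociatedPrime_iff.2 ⟨inferInstance, e (q z), ?_⟩
  ext r
  obtain ⟨r, rfl⟩ := hσ r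
  rw [Submodule.mem_colon_singleton, Submodule.mem_bot, ← he, ← map_smul, map_eq_zero_iff e e.injective,
    map_eq_zero_iff q q.injective, ← hz']
  show ¬ IsUnit (σ r) ↔ ¬ IsUnit r
  exact not_congr ⟨fun hu => IsUnit.of_map σ r hu, fun hu => hu.map σ⟩

variable (F) in
/-- A maximal point of the support of the restriction to a fibre. -/
abbrev IsMaxPt (y : B R) (v : ↥(a.fiber y)) : Prop :=
  Nontrivial (((Scheme.Modules.pullback (a.fiberι y)).obj F).presheaf.stalk v) ∧
    ∀ w : ↥(a.fiber y), Nontrivial (((Scheme.Modules.pullback (a.fiberι y)).obj F).presheaf.stalk w) →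
      v ∈ closure {w} → w = v

theorem eq_η_of_specializes {y : B R} (h : y ⤳ η R) : y = η R :=
  (h.antisymm (genericPoint_specializes y)).eq

variable (hF : Coh.IsCoh F) (hflat : FlatMod.IsFlatOver a F)

include hF in
theorem eq_of_specializes_maxPt {ζ : ↥(a.fiber (η R))} (hζ : IsMaxPt a F (η R) ζ) {q : X}
    (hq : q ⤳ a.fiberι (η R) ζ) (hn : Nontrivial (F.presheaf.stalk q)) : q = a.fiberι (η R) ζ := by
  have hqη : a q = η R := eq_η_of_specializes ((FibDim.fiber_apply_fiberι a ζ) ▸ hq.map a.continuous)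
  obtain ⟨v, rfl⟩ : q ∈ Set.range (a.fiberι (η R)) := by rw [Scheme.Hom.range_fiberι]; exact hqη
  rw [hζ.2 v ((nontrivial_fiber_η_iff a v).2 hn)
    (((a.fiberι (η R)).isEmbedding.isInducing.specializes_iff).1 hq).mem_closure]

include hF hflat in
/-- Every maximal point of the generic fibre specializes to a maximal point of the special fibre. -/
theorem exists_special (hemb : AssSch.NoEmbedded ((Scheme.Modules.pullback (a.fiberι (s R))).obj F))
    {ζ : ↥(a.fiber (η R))} (hζ : IsMaxPt a F (η R) ζ) :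
    ∃ w : ↥(a.fiber (s R)), IsMaxPt a F (s R) w ∧ a.fiberι (η R) ζ ⤳ a.fiberι (s R) w := by
  haveI : IsLocallyNoetherian (a.fiber (s R)) :=
    LocallyOfFiniteType.isLocallyNoetherian (a.fiberToSpecResidueField (s R))
  set x' := a.fiberι (η R) ζ with hx'
  have hax' : a x' = η R := FibDim.fiber_apply_fiberι a ζ
  have hne : (a.fiberι (s R) ⁻¹' closure {x'}).Nonempty := by
    have h1 : s R ∈ a '' closure {x'} := by
      have hcl : IsClosed (a '' closure {x'}) := a.isClosedMap _ isClosed_closure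
      refine closure_minimal (s := ({η R} : Set (B R))) (Set.singleton_subset_iff.2 (show η R ∈ a '' closure {x'} from ⟨x', subset_closure rfl, hax'⟩)) hcl ?_
      exact (genericPoint_specializes (s R)).mem_closure
    obtain ⟨x, hx, hxs⟩ := h1
    obtain ⟨w, rfl⟩ : x ∈ Set.range (a.fiberι (s R)) := by rw [Scheme.Hom.range_fiberι]; exact hxs
    exact ⟨w, hx⟩
  obtain ⟨w, hw, hwmax⟩ := exists_maximal_in_closed (isClosed_closure.preimage (a.fiberι (s R)).continuous) hne
  have h : x' ⤳ a.fiberι (s R) w := specializes_iff_mem_closure.2 hw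
  set x := a.fiberι (s R) w with hx
  let O := X.presheaf.stalk x
  let M := F.presheaf.stalk x
  haveI : IsNoetherianRing O := inferInstance
  haveI : Module.Finite O M := QCoh.finite_stalk_of_isFT hF.1 hF.2 x
  have hax : a x = s R := FibDim.fiber_apply_fiberι a w
  have hp : (primeOf h).asIdeal ∈ associatedPrimes O M := by
    refine Module.associatedPrimes.minimalPrimes_annihilator_subset_associatedPrimes O M ?_
    have hann : ∀ q : PrimeSpectrum O, q ∈ Module.support O M ↔ Module.annihilator O M ≤ q.asIdeal := fun q => by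
      rw [Module.support_eq_zeroLocus]
      rfl
    refine ⟨⟨(primeOf h).isPrime, (hann _).1 ((mem_support_primeOf_iff hF.1 h).2 ((nontrivial_fiber_η_iff a ζ).1 hζ.1))⟩,
      fun q hq hle => ?_⟩
    haveI := hq.1
    obtain ⟨y, hy, rfl⟩ := exists_point q
    have hyx' : y ⤳ x' := (primeOf_le_iff h hy).1 hle
    obtain rfl := eq_of_specializes_maxPt a hF hζ hyx' ((mem_support_primeOf_iff hF.1 hy).1 ((hann _).2 hq.2))
    exact le_rfl
  have ht : πx a x ∈ maximalIdeal O := fun hu => by
    have := (hu.map (X.residue x).hom).ne_zero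
    exact this ((residue_πx_eq_zero_iff a x).2 hax)
  have hwass : w ∈ AssSch.Ass ((Scheme.Modules.pullback (a.fiberι (s R))).obj F) := by
    refine mem_ass_fiber_s a w (maximal_mem_ass_quot ht (injective_πx a hflat x) hp fun q hq hle htq => ?_)
    obtain ⟨y, hy, rfl⟩ := exists_point q
    have hys : a y = s R := (residue_πx_eq_zero_iff a y).1 (by
      by_contra hne
      refine (mem_primeOf hy _).1 htq ?_
      rw [stalkSpecializes_πx a hy]
      exact (IsLocalRing.residue_ne_zero_iff_isUnit _).1 hne)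
    obtain ⟨v, rfl⟩ : y ∈ Set.range (a.fiberι (s R)) := by rw [Scheme.Hom.range_fiberι]; exact hys
    have hv : v = w := hwmax v (specializes_iff_mem_closure.1 ((primeOf_le_iff hy h).1 hle))
      (((a.fiberι (s R)).isEmbedding.isInducing.specializes_iff).1 hy)
    subst hv
    exact H23.CapLocal.primeOf_eq_max hy rfl
  refine ⟨w, ⟨?_, fun v hv hcl => ?_⟩, h⟩
  · exact not_subsingleton_iff_nontrivial.1 (AssLib.mem_support_of_mem_ass hwass)
  · obtain ⟨v', hv', hv'v⟩ := AssLib.exists_ass_specializes (QCoh.isQCoh_pullback _ hF.1)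
      (show v ∈ CohB1.support ((Scheme.Modules.pullback (a.fiberι (s R))).obj F) from fun hs => not_subsingleton _ hs)
    have hvw : v ⤳ w := specializes_iff_mem_closure.2 hcl
    obtain rfl : w = v' := hemb w hwass v' hv' (hv'v.trans hvw)
    exact (hvw.antisymm hv'v).eq

include hF hflat in
theorem sum_length_le (hemb : AssSch.NoEmbedded ((Scheme.Modules.pullback (a.fiberι (s R))).obj F)) :
    ∑ᶠ ζ : {v // IsMaxPt a F (η R) v}, Module.length ((a.fiber (η R)).presheaf.stalk ζ.1)
        (((Scheme.Modules.pullback (a.fiberι (η R))).obj F).presheaf.stalk ζ.1) ≤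
      ∑ᶠ w : {v // IsMaxPt a F (s R) v}, Module.length ((a.fiber (s R)).presheaf.stalk w.1)
        (((Scheme.Modules.pullback (a.fiberι (s R))).obj F).presheaf.stalk w.1) := by
  classical
  have hfin : ∀ y : B R, Finite {v // IsMaxPt a F y v} := fun y => by
    haveI : IsLocallyNoetherian (a.fiber y) := LocallyOfFiniteType.isLocallyNoetherian (a.fiberToSpecResidueField y)
    haveI : CompactSpace ↥(a.fiber y) :=
      QuasiCompact.compactSpace_of_compactSpace (a.fiberToSpecResidueField y)
    have hq : Coh.IsCoh ((Scheme.Modules.pullback (a.fiberι y)).obj F) := ZClosLib.isCoh_pullback _ hF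
    exact Set.Finite.to_subtype ((AssDecomp5.finite_ass hq).subset fun v hv =>
      mem_ass_of_maximal hq.1 hv.1 fun w hw hwv => hv.2 w hw hwv.mem_closure)
  haveI := hfin (η R)
  haveI := hfin (s R)
  haveI := Fintype.ofFinite {v // IsMaxPt a F (η R) v}
  haveI := Fintype.ofFinite {v // IsMaxPt a F (s R) v}
  choose φ hφ hspec using fun ζ : {v // IsMaxPt a F (η R) v} => exists_special a hF hflat hemb ζ.2
  rw [finsum_eq_sum_of_fintype, finsum_eq_sum_of_fintype,
    ← Finset.sum_fiberwise_of_maps_to (t := (Finset.univ : Finset {v // IsMaxPt a F (s R) v}))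
      (g := fun ζ => ⟨φ ζ, hφ ζ⟩) (fun _ _ => Finset.mem_univ _)]
  refine Finset.sum_le_sum fun w _ => ?_
  let x := a.fiberι (s R) w.1
  let S := Finset.univ.filter fun ζ : {v // IsMaxPt a F (η R) v} => (⟨φ ζ, hφ ζ⟩ : {v // IsMaxPt a F (s R) v}) = w
  have hsp : ∀ ζ : S, a.fiberι (η R) ζ.1.1 ⤳ x := fun ζ => by
    have e : φ ζ.1 = w.1 := congrArg Subtype.val (Finset.mem_filter.1 ζ.2).2
    show _ ⤳ a.fiberι (s R) w.1
    rw [← e]
    exact hspec ζ.1
  haveI : IsNoetherianRing (X.presheaf.stalk x) := inferInstance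
  haveI : Module.Finite (X.presheaf.stalk x) (F.presheaf.stalk x) := QCoh.finite_stalk_of_isFT hF.1 hF.2 x
  have hax : a x = s R := FibDim.fiber_apply_fiberι a w.1
  rw [H23.CapSheaf.length_stalk_pullback_closed (a.fiberι (s R)) F w.1 (ker_fiberι_s a w.1)]
  refine le_trans (le_of_eq ?_) (sum_ℓ_le_length_quot (M := F.presheaf.stalk x) (t := πx a x) ?_
    (injective_πx a hflat x) (S.attach.image fun ζ => primeOf (hsp ζ)) ?_ ?_)
  · rw [Finset.sum_image (fun ζ _ ζ' _ e => Subtype.ext (Subtype.ext ((a.fiberι (η R)).isEmbedding.injective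
      (primeOf_inj (hsp ζ) (hsp ζ') (congrArg PrimeSpectrum.asIdeal e))))),
      ← Finset.sum_attach S]
    refine Finset.sum_congr rfl fun ζ _ => ?_
    rw [length_fiber_η, ← H23.CapSheaf.length_stalk_eq hF.1 (hsp ζ)]
    rfl
  · exact fun hu => ((hu.map (X.residue x).hom).ne_zero) ((residue_πx_eq_zero_iff a x).2 hax)
  · intro p hp hmem
    obtain ⟨ζ, -, rfl⟩ := Finset.mem_image.1 hp
    refine (mem_primeOf (hsp ζ) _).1 hmem ?_
    rw [stalkSpecializes_πx a (hsp ζ)]
    refine (IsLocalRing.residue_ne_zero_iff_isUnit _).1 fun h0 => ?_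
    exact η_ne_s R ((FibDim.fiber_apply_fiberι a ζ.1.1).symm.trans ((residue_πx_eq_zero_iff a _).1 h0))
  · intro p hp q hq hle
    obtain ⟨ζ, -, rfl⟩ := Finset.mem_image.1 hp
    obtain ⟨y, hy, e⟩ := exists_point q.asIdeal
    obtain rfl : q = primeOf hy := PrimeSpectrum.ext e.symm
    have hyx' := (primeOf_le_iff (hsp ζ) hy).1 hle
    obtain rfl := eq_of_specializes_maxPt a hF ζ.1.2 hyx' ((mem_support_primeOf_iff hF.1 hy).1 hq)
    rfl

end Groth.Agent.SpFlat5
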