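import Mathlib
import Groth.Agent.CycLib.Dim1Mod

/-!
# `∑ length M_p ≤ length M/tM`, and associated points of `M/tM`
-/

set_option autoImplicit false
set_option linter.style.haveILetI false

universe u

open IsLocalRing
open scoped Pointwise

namespace Groth.Agent.SpFlat5

variable {R : Type u} [CommRing R] [IsNoetherianRing R]

section ass

variable [IsLocalRing R] {M : Type u} [AddCommGroup M] [Module R M] [Module.Finite R M]

/-- If the only prime containing `p` and `t` is the maximal ideal, then it is associated to `M/tM`. -/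
theorem maximal_mem_ass_quot {t : R} (ht : t ∈ maximalIdeal R) (hreg : IsSMulRegular M t) {p : Ideal R}
    (hp : p ∈ associatedPrimes R M)
    (honly : ∀ q : Ideal R, q.IsPrime → p ≤ q → t ∈ q → q = maximalIdeal R) :
    maximalIdeal R ∈ associatedPrimes R (QuotSMulTop t M) := by
  obtain ⟨hp', m, hm⟩ := isAssociatedPrime_iff.1 hp
  have hm' : ∀ a, a ∈ p ↔ a • m = 0 := fun a => by rw [hm, Submodule.mem_colon_singleton, Submodule.mem_bot]
  have hm0 : m ≠ 0 := fun h => hp'.ne_top ((Ideal.eq_top_iff_one _).2 ((hm' 1).2 (by rw [h, smul_zero])))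
  have hne : Ideal.span {t} ≠ ⊤ := fun h => (maximalIdeal.isMaximal R).ne_top
    (top_le_iff.1 (h ▸ (Ideal.span_singleton_le_iff_mem _).2 ht))
  have hK := Ideal.iInf_pow_smul_eq_bot_of_isLocalRing (M := M) (Ideal.span {t}) hne
  have hex : ∃ k : ℕ, m ∉ (Ideal.span {t}) ^ (k + 1) • (⊤ : Submodule R M) := by
    by_contra h
    push Not at h
    refine hm0 ?_
    have : m ∈ (⊥ : Submodule R M) := hK ▸ Submodule.mem_iInf _ |>.2 fun i => by
      cases i with
      | zero => simp
      | succ i => exact h i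
    exact (Submodule.mem_bot _).1 this
  classical
  let k := Nat.find hex
  have hk : m ∉ (Ideal.span {t}) ^ (k + 1) • (⊤ : Submodule R M) := Nat.find_spec hex
  have hk' : m ∈ (Ideal.span {t}) ^ k • (⊤ : Submodule R M) := by
    rcases Nat.eq_zero_or_pos k with h0 | h0
    · rw [h0, pow_zero, Ideal.one_eq_top, Submodule.top_smul]; trivial
    · have := Nat.find_min hex (show k - 1 < k by omega)
      rw [show k - 1 + 1 = k by omega] at this
      exact not_not.1 this
  rw [Ideal.span_singleton_pow, Submodule.ideal_span_singleton_smul] at hk hk'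
  obtain ⟨m', -, hmm' : t ^ k • m' = m⟩ := hk'
  have hm'0 : (Submodule.Quotient.mk m' : QuotSMulTop t M) ≠ 0 := fun h => by
    rw [Submodule.Quotient.mk_eq_zero] at h
    obtain ⟨w, -, rfl⟩ := h
    exact hk ⟨w, trivial, by show t ^ (k + 1) • w = m; rw [← hmm', pow_succ, mul_smul]; rfl⟩
  obtain ⟨q, hq, hle⟩ := exists_le_isAssociatedPrime_of_isNoetherianRing R (Submodule.Quotient.mk m' : QuotSMulTop t M) hm'0
  have hq' := hq.isPrime
  have h1 : p ≤ q := fun a ha => hle (by
    rw [Submodule.mem_colon_singleton, Submodule.mem_bot, ← Submodule.Quotient.mk_smul]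
    have : a • m' = 0 := (hreg.pow k) (by
      show t ^ k • a • m' = t ^ k • (0 : M)
      rw [smul_zero, smul_comm, hmm']
      exact (hm' a).1 ha)
    rw [this, Submodule.Quotient.mk_zero])
  have h2 : t ∈ q := hle (by
    rw [Submodule.mem_colon_singleton, Submodule.mem_bot, ← Submodule.Quotient.mk_smul, Submodule.Quotient.mk_eq_zero]
    exact ⟨m', trivial, rfl⟩)
  rw [← honly q hq' h1 h2]
  exact hq

end ass

/-- The length of a localization. -/
noncomputable def ℓ (p : PrimeSpectrum R) (M : Type u) [AddCommGroup M] [Module R M] : ℕ∞ :=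
  Module.length (Localization.AtPrime p.asIdeal) (LocalizedModule p.asIdeal.primeCompl M)

variable {M : Type u} [AddCommGroup M] [Module R M]

omit [IsNoetherianRing R] in
theorem ℓ_ne_zero_iff (p : PrimeSpectrum R) : ℓ p M ≠ 0 ↔ p ∈ Module.support R M := by
  rw [ℓ, Ne, Module.length_eq_zero_iff, Module.mem_support_iff, not_subsingleton_iff_nontrivial]

omit [IsNoetherianRing R] in
theorem ℓ_add (p : PrimeSpectrum R) (M₁ : Submodule R M) : ℓ p M = ℓ p M₁ + ℓ p (M ⧸ M₁) := by
  refine Module.length_eq_add_of_exact (LocalizedModule.map p.asIdeal.primeCompl M₁.subtype)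
    (LocalizedModule.map p.asIdeal.primeCompl M₁.mkQ) ?_ ?_ ?_
  · exact LocalizedModule.map_injective _ _ M₁.injective_subtype
  · exact LocalizedModule.map_surjective _ _ M₁.mkQ_surjective
  · exact LocalizedModule.map_exact _ _ _ (LinearMap.exact_subtype_mkQ M₁)

/-- A module all of whose elements are, up to a denominator, multiples of one with prime annihilator. -/
theorem ℓ_le_one (p : PrimeSpectrum R) (m : M) (hann : ∀ a ∈ p.asIdeal, a • m = 0)
    (hgen : ∀ z : M, ∃ s ∉ p.asIdeal, ∃ r : R, s • z = r • m) : ℓ p M ≤ 1 := by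
  let L := Localization.AtPrime p.asIdeal
  let V := LocalizedModule p.asIdeal.primeCompl M
  let ι := LocalizedModule.mkLinearMap p.asIdeal.primeCompl M
  have key : ∀ v : V, ∃ c : L, v = c • ι m := fun v => by
    obtain ⟨⟨z, t⟩, hv⟩ := IsLocalizedModule.surj p.asIdeal.primeCompl ι v
    obtain ⟨s, hs, r, hr⟩ := hgen z
    let y : p.asIdeal.primeCompl := ⟨t * s, p.asIdeal.primeCompl.mul_mem t.2 (show s ∈ p.asIdeal.primeCompl from hs)⟩
    refine ⟨IsLocalization.mk' L r y, ?_⟩
    have hu : IsUnit (algebraMap R L (y : R)) := IsLocalization.map_units L y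
    refine hu.smul_left_cancel.1 ?_
    rw [← mul_smul, IsLocalization.mk'_spec', algebraMap_smul, algebraMap_smul,
      show (y : R) = s * t from mul_comm _ _, mul_smul,
      show (t : R) • v = ι z from hv, ← map_smul, hr, map_smul]
  by_cases hm : ι m = 0
  · haveI : Subsingleton V := subsingleton_of_forall_eq 0 fun v => by
      obtain ⟨c, rfl⟩ := key v
      rw [hm, smul_zero]
    rw [ℓ, Module.length_eq_zero]
    exact zero_le_one
  haveI : Nontrivial V := ⟨⟨_, _, hm⟩⟩
  haveI : IsSimpleModule L V := isSimpleModule_iff_toSpanSingleton_surjective.2 ⟨inferInstance, fun v hv w => by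
    obtain ⟨c, rfl⟩ := key v
    obtain ⟨d, rfl⟩ := key w
    have hc : IsUnit c := by
      by_contra hc
      have hc' : c ∈ maximalIdeal L := hc
      rw [← Localization.AtPrime.map_eq_maximalIdeal] at hc'
      refine hv ?_
      have hle : (p.asIdeal.map (algebraMap R L)) ≤ LinearMap.ker (LinearMap.toSpanSingleton L V (ι m)) :=
        Ideal.map_le_iff_le_comap.2 fun a ha => by
          show algebraMap R L a • ι m = 0
          rw [algebraMap_smul, ← map_smul, hann a ha, map_zero]
      exact hle hc'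
    exact ⟨d * hc.unit⁻¹.val, by
      rw [LinearMap.toSpanSingleton_apply, smul_smul, mul_assoc, IsUnit.val_inv_mul, mul_one]⟩⟩
  rw [ℓ, Module.length_eq_one]

variable [IsLocalRing R]

theorem sum_ℓ_le {t : R} (ht : t ∈ maximalIdeal R) (P : Finset (PrimeSpectrum R))
    (hP : ∀ p ∈ P, t ∉ p.asIdeal) :
    ∀ (n : ℕ) (M : Type u) [AddCommGroup M] [Module R M] [Module.Finite R M], IsSMulRegular M t →
      (∀ p ∈ P, ∀ q ∈ Module.support R M, q ≤ p → q = p) → (∑ p ∈ P, ℓ p M) ≤ n →
      (∑ p ∈ P, ℓ p M) ≤ Module.length R (QuotSMulTop t M) := by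
  classical
  intro n
  induction n with
  | zero =>
    intro M _ _ _ _ _ h
    exact h.trans (zero_le)
  | succ n IH =>
    intro M _ _ _ hreg hmin hn
    by_cases h0 : ∀ p ∈ P, ℓ p M = 0
    · rw [Finset.sum_eq_zero h0]
      exact zero_le
    push Not at h0
    obtain ⟨p, hpP, hp⟩ := h0
    have hps : p ∈ Module.support R M := (ℓ_ne_zero_iff p).1 hp
    have hpa : p.asIdeal ∈ associatedPrimes R M := by
      refine Module.associatedPrimes.minimalPrimes_annihilator_subset_associatedPrimes R M ?_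
      have hann : ∀ q : PrimeSpectrum R, q ∈ Module.support R M ↔ Module.annihilator R M ≤ q.asIdeal := fun q => by
        rw [Module.support_eq_zeroLocus]
        rfl
      exact ⟨⟨p.isPrime, (hann p).1 hps⟩, fun q hq hle => (congrArg PrimeSpectrum.asIdeal
        (hmin p hpP ⟨q, hq.1⟩ ((hann ⟨q, hq.1⟩).2 hq.2) hle)).ge⟩
    obtain ⟨-, m, hm⟩ := isAssociatedPrime_iff.1 hpa
    have hm' : ∀ a, a ∈ p.asIdeal ↔ a • m = 0 := fun a => by
      rw [hm, Submodule.mem_colon_singleton, Submodule.mem_bot]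
    let M₁ : Submodule R M :=
      { carrier := {z | ∃ (k : ℕ) (r : R), t ^ k • z = r • m}
        add_mem' := fun {a b} ⟨k, r, e⟩ ⟨k', r', e'⟩ => ⟨k + k', t ^ k' * r + t ^ k * r', by
          rw [smul_add, add_smul, mul_smul, mul_smul, ← e, ← e', ← mul_smul, ← mul_smul, ← pow_add, ← pow_add,
            Nat.add_comm k' k]⟩
        zero_mem' := ⟨0, 0, by simp⟩
        smul_mem' := fun c z ⟨k, r, e⟩ => ⟨k, c * r, by rw [smul_comm, e, mul_smul]⟩ }
    have hmM₁ : m ∈ M₁ := ⟨0, 1, by simp⟩
    have hQreg : IsSMulRegular (M ⧸ M₁) t := by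
      intro a b hab
      obtain ⟨a, rfl⟩ := M₁.mkQ_surjective a
      obtain ⟨b, rfl⟩ := M₁.mkQ_surjective b
      have h1 : t • (a - b) ∈ M₁ := by
        rw [smul_sub]
        exact (Submodule.Quotient.eq M₁).1 hab
      obtain ⟨k, r, e⟩ := h1
      exact (Submodule.Quotient.eq M₁).2 ⟨k + 1, r, by rw [pow_succ, mul_smul, e]⟩
    have hmin₂ : ∀ q ∈ P, ∀ q' ∈ Module.support R (M ⧸ M₁), q' ≤ q → q' = q := fun q hq q' hq' =>
      hmin q hq q' (Module.support_subset_of_surjective M₁.mkQ M₁.mkQ_surjective hq')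
    have h1le : ∀ q ∈ P, ℓ q M₁ ≤ if q = p then 1 else 0 := by
      intro q hq
      split_ifs with hqp
      · subst hqp
        exact ℓ_le_one q ⟨m, hmM₁⟩ (fun a ha => Subtype.ext ((hm' a).1 ha)) fun ⟨z, k, r, e⟩ =>
          ⟨t ^ k, fun h => hP q hq (q.isPrime.mem_of_pow_mem k h), r, Subtype.ext e⟩
      · have hnot : ¬ p ≤ q := fun h => hqp (hmin q hq p hps h).symm
        obtain ⟨a, hap, haq⟩ := SetLike.not_le_iff_exists.1 (show ¬ p.asIdeal ≤ q.asIdeal from hnot)
        refine le_of_eq (by_contra fun h => (Module.mem_support_iff'.1 ((ℓ_ne_zero_iff q).1 h)).elim ?_)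
        rintro ⟨z, k, r, e⟩ hz
        refine hz (t ^ k * a) (fun hmem => ?_) (Subtype.ext ?_)
        · rcases q.isPrime.mem_or_mem hmem with h | h
          · exact hP q hq (q.isPrime.mem_of_pow_mem k h)
          · exact haq h
        · show (t ^ k * a) • z = 0
          rw [mul_comm, mul_smul, e, smul_comm, (hm' a).1 hap, smul_zero]
    have hsum1 : (∑ q ∈ P, ℓ q M₁) ≤ 1 := (Finset.sum_le_sum h1le).trans (by simp [hpP])
    have hpos : 1 ≤ ∑ q ∈ P, ℓ q M₁ := by
      refine le_trans ?_ (Finset.single_le_sum (fun q _ => zero_le) hpP)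
      refine Order.one_le_iff_ne_zero.2 ((ℓ_ne_zero_iff p).2 (Module.mem_support_iff'.2 ⟨⟨m, hmM₁⟩, fun a ha e => ?_⟩))
      exact ha ((hm' a).2 (congrArg Subtype.val e))
    have hsplit : (∑ q ∈ P, ℓ q M) = (∑ q ∈ P, ℓ q M₁) + ∑ q ∈ P, ℓ q (M ⧸ M₁) := by
      rw [← Finset.sum_add_distrib]
      exact Finset.sum_congr rfl fun q _ => ℓ_add q M₁
    have hn₂ : (∑ q ∈ P, ℓ q (M ⧸ M₁)) ≤ n := by
      have : (1 : ℕ∞) + ∑ q ∈ P, ℓ q (M ⧸ M₁) ≤ 1 + (n : ℕ∞) := by
        refine le_trans ?_ (hn.trans (by rw [Nat.cast_succ, add_comm]))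
        rw [hsplit]
        exact add_le_add hpos le_rfl
      exact (ENat.add_le_add_iff_left ENat.one_ne_top).1 this
    have hrec := IH (M ⧸ M₁) hQreg hmin₂ hn₂
    have hinj : Function.Injective (QuotSMulTop.map t M₁.subtype) := by
      refine (injective_iff_map_eq_zero _).2 fun z hz => ?_
      obtain ⟨z, rfl⟩ := Submodule.mkQ_surjective _ z
      rw [Submodule.mkQ_apply, QuotSMulTop.map_apply_mk, Submodule.Quotient.mk_eq_zero] at hz
      obtain ⟨w, -, hw⟩ := hz
      have hwM : w ∈ M₁ := (Submodule.Quotient.mk_eq_zero M₁).1 (hQreg (by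
        show t • Submodule.Quotient.mk w = t • (0 : M ⧸ M₁)
        rw [smul_zero, ← Submodule.Quotient.mk_smul, show t • w = (z : M) from hw, Submodule.Quotient.mk_eq_zero]
        exact z.2))
      rw [Submodule.mkQ_apply, Submodule.Quotient.mk_eq_zero]
      exact ⟨⟨w, hwM⟩, trivial, Subtype.ext hw⟩
    have hlen := Module.length_eq_add_of_exact (QuotSMulTop.map t M₁.subtype) (QuotSMulTop.map t M₁.mkQ) hinj
      (QuotSMulTop.map_surjective t M₁.mkQ_surjective)
      (QuotSMulTop.map_exact t (LinearMap.exact_subtype_mkQ M₁) M₁.mkQ_surjective)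
    have hge : (1 : ℕ∞) ≤ Module.length R (QuotSMulTop t M₁) := by
      refine Order.one_le_iff_ne_zero.2 fun h => ?_
      rw [Module.length_eq_zero_iff, Submodule.Quotient.subsingleton_iff] at h
      have hbot : (⊤ : Submodule R M₁) = ⊥ := Submodule.eq_bot_of_le_smul_of_le_jacobson_bot (Ideal.span {t}) _
        Module.Finite.fg_top (by rw [Submodule.ideal_span_singleton_smul, h])
        ((Ideal.span_singleton_le_iff_mem _).2 ht |>.trans (maximalIdeal_le_jacobson _))
      have hm0 : (⟨m, hmM₁⟩ : M₁) = 0 := (Submodule.mem_bot R).1 (hbot ▸ Submodule.mem_top)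
      exact p.isPrime.ne_top ((Ideal.eq_top_iff_one _).2 ((hm' 1).2 (by
        rw [show m = 0 from congrArg Subtype.val hm0, smul_zero])))
    rw [hsplit, hlen]
    exact add_le_add (hsum1.trans hge) hrec

/-- **Multiplicity inequality.** -/
theorem sum_ℓ_le_length_quot [Module.Finite R M] {t : R} (ht : t ∈ maximalIdeal R) (hreg : IsSMulRegular M t)
    (P : Finset (PrimeSpectrum R)) (hP : ∀ p ∈ P, t ∉ p.asIdeal)
    (hmin : ∀ p ∈ P, ∀ q ∈ Module.support R M, q ≤ p → q = p) :
    (∑ p ∈ P, ℓ p M) ≤ Module.length R (QuotSMulTop t M) := by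
  have hne : (∑ p ∈ P, ℓ p M) ≠ ⊤ := by
    refine Finset.sum_induction _ (fun z : ℕ∞ => z ≠ ⊤) (fun a b ha hb => WithTop.add_ne_top.2 ⟨ha, hb⟩)
      ENat.zero_ne_top fun p hp => ?_
    exact CycLib.length_localized_ne_top_of_minimal p (M := M) (fun q hq hle => hmin p hp q hq hle)
  obtain ⟨n, hn⟩ := WithTop.ne_top_iff_exists.1 hne
  exact sum_ℓ_le ht P hP n M hreg hmin hn.ge

end Groth.Agent.SpFlat5
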